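import Mathlib
import Groth.Agent.Lib.Helper4.EffCartier

set_option linter.style.haveILetI false
set_option linter.unusedVariables false
set_option linter.unusedSectionVars false
set_option autoImplicit false
set_option backward.isDefEq.respectTransparency.types false
set_option synthInstance.maxHeartbeats 400000
set_option maxHeartbeats 800000
universe u

/-! helper7: prime ideal of a point in sections over an open; support criteria -/
open CategoryTheory CategoryTheory.Limits AlgebraicGeometry TopologicalSpace Opposite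

namespace Groth.Agent.Helper7.BlowSep

open Scheme.IdealSheafData Groth.Agent.Helper4

/-- the prime ideal of sections over `W` vanishing at the point `x` -/
noncomputable def ptIdeal {X : Scheme.{u}} (W : X.Opens) (x : X) (hx : x ∈ W) : Ideal Γ(X, W) :=
  Ideal.comap (X.presheaf.germ W x hx).hom (IsLocalRing.maximalIdeal (X.presheaf.stalk x))

instance ptIdeal_isPrime {X : Scheme.{u}} (W : X.Opens) (x : X) (hx : x ∈ W) :
    (ptIdeal W x hx).IsPrime := by
  unfold ptIdeal
  infer_instance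

theorem mem_ptIdeal_iff {X : Scheme.{u}} (W : X.Opens) (x : X) (hx : x ∈ W) (g : Γ(X, W)) :
    g ∈ ptIdeal W x hx ↔ x ∉ X.basicOpen g := by
  unfold ptIdeal
  rw [Ideal.mem_comap, IsLocalRing.mem_maximalIdeal, mem_nonunits_iff, Scheme.mem_basicOpen _ _ _ hx]

theorem comap_ptIdeal {X Y : Scheme.{u}} (h : Y ⟶ X) (W : X.Opens) (W' : Y.Opens)
    (e : W' ≤ h ⁻¹ᵁ W) (y : Y) (hy : y ∈ W') :
    Ideal.comap (h.appLE W W' e).hom (ptIdeal W' y hy) = ptIdeal W (h y) (e hy) := by
  ext g
  rw [Ideal.mem_comap, mem_ptIdeal_iff, mem_ptIdeal_iff]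
  have := Scheme.basicOpen_appLE h W' W e g
  have h2 : y ∈ Y.basicOpen ((h.appLE W W' e).hom g) ↔ h y ∈ X.basicOpen g := by
    rw [show Y.basicOpen ((h.appLE W W' e).hom g) = W' ⊓ h ⁻¹ᵁ (X.basicOpen g) from this]
    exact ⟨fun hh => hh.2, fun hh => ⟨hy, hh⟩⟩
  rw [h2]

theorem map_le_ptIdeal {X Y : Scheme.{u}} (h : Y ⟶ X) (W : X.Opens) (W' : Y.Opens)
    (e : W' ≤ h ⁻¹ᵁ W) (y : Y) (hy : y ∈ W') (I : Ideal Γ(X, W))
    (hI : I ≤ ptIdeal W (h y) (e hy)) : I.map (h.appLE W W' e).hom ≤ ptIdeal W' y hy := by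
  rw [Ideal.map_le_iff_le_comap, comap_ptIdeal]
  exact hI

/-- a point of an affine open lies in the support iff the ideal is contained in its prime -/
theorem ideal_le_ptIdeal_iff {X : Scheme.{u}} (I : X.IdealSheafData) (U : X.affineOpens) (x : X)
    (hx : x ∈ U.1) : I.ideal U ≤ ptIdeal U.1 x hx ↔ x ∈ I.support := by
  rw [mem_support_iff_of_mem hx, Scheme.mem_zeroLocus_iff]
  constructor
  · intro h g hg
    exact (mem_ptIdeal_iff _ _ _ _).mp (h hg)
  · intro h g hg
    exact (mem_ptIdeal_iff _ _ _ _).mpr (h g hg)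

theorem exists_not_mem_ptIdeal {X : Scheme.{u}} (I : X.IdealSheafData) (U : X.affineOpens) (x : X)
    (hx : x ∈ U.1) (hxs : x ∉ I.support) : ∃ g ∈ I.ideal U, g ∉ ptIdeal U.1 x hx := by
  by_contra hcon
  push Not at hcon
  exact hxs ((ideal_le_ptIdeal_iff I U x hx).mp hcon)

end Groth.Agent.Helper7.BlowSep
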