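import Mathlib
import Groth.Agent.Lib.Helper7.BlowSep.Pt

set_option linter.style.haveILetI false
set_option linter.unusedVariables false
set_option linter.unusedSectionVars false
set_option autoImplicit false
set_option backward.isDefEq.respectTransparency.types false
set_option synthInstance.maxHeartbeats 400000
set_option maxHeartbeats 1600000
universe u

/-! helper7: closure of Y' misses preimage of closure of q^-1(V-U) after blowing up I1+I2 (S17391) -/
open CategoryTheory CategoryTheory.Limits AlgebraicGeometry TopologicalSpace Opposite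

namespace Groth.Agent.Helper7.BlowSep

open Scheme.IdealSheafData Groth.Agent.Helper4

theorem appLE_congr' {X Y : Scheme.{u}} (g₁ g₂ : Y ⟶ X) (h : g₁ = g₂) (W : X.Opens) (W' : Y.Opens)
    (e₁ : W' ≤ g₁ ⁻¹ᵁ W) (e₂ : W' ≤ g₂ ⁻¹ᵁ W) : g₁.appLE W W' e₁ = g₂.appLE W W' e₂ := by
  subst h
  rfl

theorem S17391_main {X Y Z X' : Scheme.{u}} (p : Z ⟶ X) (U V : X.Opens)
    (f : Y ⟶ Z) (hY : Set.range (fun y => p (f y)) ⊆ (U : Set X))
    (𝓘₁ 𝓘₂ : X.IdealSheafData)
    (h₁ : (V : Set X) \ (U : Set X) ⊆ (𝓘₁.support : Set X))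
    (h₁' : Disjoint (𝓘₁.support : Set X) (U : Set X))
    (h₂ : (𝓘₂.support : Set X) ⊆ (𝓘₁.support : Set X) \ (V : Set X))
    (hincl : 𝓘₂.comap p ≤ (𝓘₁ * 𝓘₁).comap p ⊔ f.ker)
    (q : X' ⟶ X) (hq : BlowUp.IsBlowUp q (𝓘₁ ⊔ 𝓘₂)) :
    Disjoint (closure (Set.range (fun y => (pullback.snd f (pullback.fst p q)) y)))
      ((fun z => (pullback.snd p q) z) ⁻¹'
        closure ((fun x' => q x') ⁻¹' ((V : Set X) \ (U : Set X)))) := by
  rw [Set.disjoint_left]
  intro z' hz1 hz2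
  have hcond : ∀ w : ↥(pullback p q), p ((pullback.fst p q) w) = q ((pullback.snd p q) w) := by
    intro w
    have := congrArg (fun g : pullback p q ⟶ X => g w) (pullback.condition (f := p) (g := q))
    simpa using this
  -- affine charts
  obtain ⟨O, hO, hxO, -⟩ := Opens.isBasis_iff_nbhd.mp X.isBasis_affineOpens
    (show q ((pullback.snd p q) z') ∈ (⊤ : X.Opens) from trivial)
  obtain ⟨O', hxO', hO'le, t, ht, hE⟩ := EffCartier.shrink hq.1 ((pullback.snd p q) z')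
    (q ⁻¹ᵁ O) hxO
  have hzpO : (pullback.fst p q) z' ∈ p ⁻¹ᵁ O := by
    change p ((pullback.fst p q) z') ∈ O
    rw [hcond]
    exact hxO
  obtain ⟨N, hN, hzN, hNle⟩ := Opens.isBasis_iff_nbhd.mp Z.isBasis_affineOpens hzpO
  obtain ⟨N', hN', hzN', hN'le⟩ := Opens.isBasis_iff_nbhd.mp (pullback p q).isBasis_affineOpens
    (show z' ∈ (pullback.fst p q) ⁻¹ᵁ N ⊓ (pullback.snd p q) ⁻¹ᵁ O'.1 from ⟨hzN, hxO'⟩)
  have eN'1 : N' ≤ (pullback.fst p q) ⁻¹ᵁ N := hN'le.trans inf_le_left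
  have eN'2 : N' ≤ (pullback.snd p q) ⁻¹ᵁ O'.1 := hN'le.trans inf_le_right
  let Oa : X.affineOpens := ⟨O, hO⟩
  let Na : Z.affineOpens := ⟨N, hN⟩
  set α : Γ(X, O) →+* Γ(X', O'.1) := (q.appLE O O'.1 hO'le).hom with hα
  set β : Γ(X, O) →+* Γ(Z, N) := (p.appLE O N hNle).hom with hβ
  set γ : Γ(Z, N) →+* Γ(pullback p q, N') := ((pullback.fst p q).appLE N N' eN'1).hom with hγ
  set δ : Γ(X', O'.1) →+* Γ(pullback p q, N') := ((pullback.snd p q).appLE O'.1 N' eN'2).hom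
    with hδ
  have comm : γ.comp β = δ.comp α := by
    have e1 := Scheme.Hom.appLE_comp_appLE (pullback.fst p q) p O N N' hNle eN'1
    have e2 := Scheme.Hom.appLE_comp_appLE (pullback.snd p q) q O O'.1 N' hO'le eN'2
    have e3 := appLE_congr' (pullback.fst p q ≫ p) (pullback.snd p q ≫ q) pullback.condition O N'
      (eN'1.trans ((Opens.map (pullback.fst p q).base).map (homOfLE hNle)).le)
      (eN'2.trans ((Opens.map (pullback.snd p q).base).map (homOfLE hO'le)).le)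
    rw [← e1, ← e2] at e3
    have := congrArg CommRingCat.Hom.hom e3
    simpa using this
  -- the ideals
  set A₁ : Ideal Γ(X', O'.1) := (𝓘₁.ideal Oa).map α with hA₁
  set A₂ : Ideal Γ(X', O'.1) := (𝓘₂.ideal Oa).map α with hA₂
  have hA : A₁ ⊔ A₂ = Ideal.span {t} := by
    rw [← hE, IdealComap.ideal_comap_eq_map q (𝓘₁ ⊔ 𝓘₂) O' Oa hO'le, ideal_sup, Pi.sup_apply,
      Ideal.map_sup]
  have hA₁le : A₁ ≤ Ideal.span {t} := hA ▸ le_sup_left
  have hA₂le : A₂ ≤ Ideal.span {t} := hA ▸ le_sup_right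
  set K : Ideal Γ(Z, N) := f.ker.ideal Na with hK
  have hincl' : (𝓘₂.ideal Oa).map β ≤ (𝓘₁.ideal Oa * 𝓘₁.ideal Oa).map β ⊔ K := by
    have := ideal_mono hincl Na
    rw [ideal_sup, Pi.sup_apply, IdealComap.ideal_comap_eq_map p 𝓘₂ Na Oa hNle,
      IdealComap.ideal_comap_eq_map p (𝓘₁ * 𝓘₁) Na Oa hNle, ideal_mul, Pi.mul_apply] at this
    exact this
  -- the points
  set Px' := ptIdeal O'.1 ((pullback.snd p q) z') hxO' with hPx'
  set Pz' := ptIdeal N' z' hzN' with hPz'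
  have hcomapδ : Ideal.comap δ Pz' = Px' := comap_ptIdeal (pullback.snd p q) O'.1 N' eN'2 z' hzN'
  -- F1
  have F1 : ∀ c : Γ(X', O'.1), c * t ∈ A₁ → c ∈ Px' := by
    intro c hc
    by_contra hcn
    have hx'c : (pullback.snd p q) z' ∈ X'.basicOpen c := by
      by_contra h
      exact hcn ((mem_ptIdeal_iff _ _ _ _).mpr h)
    obtain ⟨w, hwc, hwS⟩ := mem_closure_iff.mp hz2 _ (X'.basicOpen c).2 hx'c
    have hwO' : w ∈ O'.1 := X'.basicOpen_le c hwc
    have hqwO : q w ∈ O := hO'le hwO'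
    have hw1 : q w ∈ 𝓘₁.support := h₁ hwS
    have hw2 : q w ∉ 𝓘₂.support := fun h => (h₂ h).2 hwS.1
    have hA₁w : A₁ ≤ ptIdeal O'.1 w hwO' :=
      map_le_ptIdeal q O O'.1 hO'le w hwO' _ ((ideal_le_ptIdeal_iff 𝓘₁ Oa (q w) hqwO).mpr hw1)
    obtain ⟨g, hg, hgn⟩ := exists_not_mem_ptIdeal 𝓘₂ Oa (q w) hqwO hw2
    have hαg : α g ∉ ptIdeal O'.1 w hwO' := by
      intro h
      have : g ∈ Ideal.comap α (ptIdeal O'.1 w hwO') := h
      rw [hα, comap_ptIdeal q O O'.1 hO'le w hwO'] at this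
      exact hgn this
    have htw : t ∉ ptIdeal O'.1 w hwO' := by
      intro h
      obtain ⟨r, hr⟩ := Ideal.mem_span_singleton'.mp (hA₂le (Ideal.mem_map_of_mem α hg))
      apply hαg
      rw [← hr]
      exact Ideal.mul_mem_left _ _ h
    rcases (ptIdeal_isPrime O'.1 w hwO').mem_or_mem (hA₁w hc) with h | h
    · exact (mem_ptIdeal_iff _ _ _ _).mp h hwc
    · exact htw h
  -- F2
  have htmem : t ∈ A₁ ⊔ A₂ := hA ▸ Ideal.mem_span_singleton_self t
  obtain ⟨a, ha, b, hb, hab⟩ := Submodule.mem_sup.mp htmem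
  obtain ⟨c, hc⟩ := Ideal.mem_span_singleton'.mp (hA₁le ha)
  obtain ⟨d, hd⟩ := Ideal.mem_span_singleton'.mp (hA₂le hb)
  have hcd : c + d = 1 := by
    have h1 : (c + d) * t = 1 * t := by rw [add_mul, hc, hd, hab, one_mul]
    exact (mul_cancel_right_mem_nonZeroDivisors ht).mp h1
  have hcP : c ∈ Px' := F1 c (hc ▸ ha)
  have hdP : d ∉ Px' := by
    intro h
    have h1 : (1 : Γ(X', O'.1)) ∈ Px' := hcd ▸ Ideal.add_mem _ hcP h
    exact (ptIdeal_isPrime _ _ _).ne_top ((Ideal.eq_top_iff_one _).mpr h1)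
  -- F3
  have hA₁mul : A₁ ≤ Ideal.span {t} * Px' := by
    intro a' ha'
    obtain ⟨c', hc'⟩ := Ideal.mem_span_singleton'.mp (hA₁le ha')
    have hc'P : c' ∈ Px' := F1 c' (hc' ▸ ha')
    rw [← hc', mul_comm c' t]
    exact Ideal.mul_mem_mul (Ideal.mem_span_singleton_self t) hc'P
  have hA₁sq : (A₁ * A₁).map δ ≤ Ideal.span {δ t * δ t} * Pz' := by
    have h1 : A₁ * A₁ ≤ Ideal.span {t * t} * Px' := by
      calc A₁ * A₁ ≤ (Ideal.span {t} * Px') * (Ideal.span {t} * Px') := Ideal.mul_mono hA₁mul hA₁mul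
        _ = (Ideal.span {t} * Ideal.span {t}) * (Px' * Px') := mul_mul_mul_comm _ _ _ _
        _ ≤ Ideal.span {t * t} * Px' := by
          rw [Ideal.span_singleton_mul_span_singleton]
          exact Ideal.mul_mono le_rfl Ideal.mul_le_left
    calc (A₁ * A₁).map δ ≤ (Ideal.span {t * t} * Px').map δ := Ideal.map_mono h1
      _ = Ideal.span {δ t * δ t} * Px'.map δ := by
        rw [Ideal.map_mul, Ideal.map_span, Set.image_singleton, map_mul]
      _ ≤ Ideal.span {δ t * δ t} * Pz' := by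
        apply Ideal.mul_mono le_rfl
        rw [Ideal.map_le_iff_le_comap, hcomapδ]
  have hδb : δ b ∈ (A₁ * A₁).map δ ⊔ K.map γ := by
    have h1 : δ b ∈ A₂.map δ := Ideal.mem_map_of_mem δ hb
    have h2 : A₂.map δ ≤ (A₁ * A₁).map δ ⊔ K.map γ := by
      calc A₂.map δ = ((𝓘₂.ideal Oa).map β).map γ := by
            rw [hA₂, Ideal.map_map, Ideal.map_map, comm]
        _ ≤ ((𝓘₁.ideal Oa * 𝓘₁.ideal Oa).map β ⊔ K).map γ := Ideal.map_mono hincl'
        _ = (A₁ * A₁).map δ ⊔ K.map γ := by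
            rw [Ideal.map_sup, Ideal.map_map, comm, ← Ideal.map_map, Ideal.map_mul]
    exact h2 h1
  obtain ⟨m₁, hm₁, k, hk, hmk⟩ := Submodule.mem_sup.mp hδb
  obtain ⟨c', hc'P, hc'⟩ := Ideal.mem_span_singleton_mul.mp (hA₁sq hm₁)
  set u : Γ(pullback p q, N') := δ d - δ t * c' with hu
  have hut : δ t * u = k := by
    have h1 : δ d * δ t = δ t * δ t * c' + k := by
      rw [← map_mul, hd, hc', hmk]
    rw [hu, mul_sub, mul_comm (δ t) (δ d), h1]
    ring
  have huP : u ∉ Pz' := by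
    intro h
    have h1 : δ d ∈ Pz' := by
      have : δ d = u + δ t * c' := by rw [hu]; ring
      rw [this]
      exact Ideal.add_mem _ h (Ideal.mul_mem_left _ _ hc'P)
    have : d ∈ Ideal.comap δ Pz' := h1
    rw [hcomapδ] at this
    exact hdP this
  -- F4
  have hz'u : z' ∈ (pullback p q).basicOpen u := by
    by_contra h
    exact huP ((mem_ptIdeal_iff _ _ _ _).mpr h)
  obtain ⟨_, hz''u, ⟨y', rfl⟩⟩ := mem_closure_iff.mp hz1 _ ((pullback p q).basicOpen u).2 hz'u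
  set z'' := (pullback.snd f (pullback.fst p q)) y' with hz''
  have hz''N' : z'' ∈ N' := (pullback p q).basicOpen_le u hz''u
  have hfy : (pullback.fst p q) z'' = f ((pullback.fst f (pullback.fst p q)) y') := by
    have := congrArg (fun g : pullback f (pullback.fst p q) ⟶ Z => g y')
      (pullback.condition (f := f) (g := pullback.fst p q))
    simpa using this.symm
  have hz''N : (pullback.fst p q) z'' ∈ N := eN'1 hz''N'
  have hKle : K ≤ ptIdeal N ((pullback.fst p q) z'') hz''N := by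
    rw [hK, ideal_le_ptIdeal_iff f.ker Na _ hz''N, hfy]
    exact f.range_subset_ker_support ⟨_, rfl⟩
  have hkP : k ∈ ptIdeal N' z'' hz''N' :=
    map_le_ptIdeal (pullback.fst p q) N N' eN'1 z'' hz''N' K hKle hk
  have hδt : δ t ∈ ptIdeal N' z'' hz''N' := by
    rcases (ptIdeal_isPrime N' z'' hz''N').mem_or_mem (hut ▸ hkP) with h | h
    · exact h
    · exact absurd hz''u ((mem_ptIdeal_iff _ _ _ _).mp h)
  have hx''O' : (pullback.snd p q) z'' ∈ O'.1 := eN'2 hz''N'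
  have htP : t ∈ ptIdeal O'.1 ((pullback.snd p q) z'') hx''O' := by
    have : t ∈ Ideal.comap δ (ptIdeal N' z'' hz''N') := hδt
    rwa [hδ, comap_ptIdeal (pullback.snd p q) O'.1 N' eN'2 z'' hz''N'] at this
  have hqx''U : q ((pullback.snd p q) z'') ∈ (U : Set X) := by
    rw [← hcond, hfy]
    exact hY ⟨_, rfl⟩
  have hqx''O : q ((pullback.snd p q) z'') ∈ O := hO'le hx''O'
  have hns : q ((pullback.snd p q) z'') ∉ 𝓘₁.support := fun h => Set.disjoint_left.mp h₁' h hqx''U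
  obtain ⟨g, hg, hgn⟩ := exists_not_mem_ptIdeal 𝓘₁ Oa _ hqx''O hns
  have hαg : α g ∉ ptIdeal O'.1 ((pullback.snd p q) z'') hx''O' := by
    intro h
    have : g ∈ Ideal.comap α (ptIdeal O'.1 ((pullback.snd p q) z'') hx''O') := h
    rw [hα, comap_ptIdeal q O O'.1 hO'le _ hx''O'] at this
    exact hgn this
  obtain ⟨r, hr⟩ := Ideal.mem_span_singleton'.mp (hA₁le (Ideal.mem_map_of_mem α hg))
  apply hαg
  rw [← hr]
  exact Ideal.mul_mem_left _ _ htP

end Groth.Agent.Helper7.BlowSep
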