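import Mathlib
import Groth.Agent.Lib.Helper7.BlowSep.Sep

set_option linter.style.haveILetI false
set_option linter.unusedVariables false
set_option linter.unusedSectionVars false
set_option autoImplicit false
set_option backward.isDefEq.respectTransparency.types false
set_option synthInstance.maxHeartbeats 400000
set_option maxHeartbeats 1600000
universe u

/-! helper7: closures separated after blowing up an ideal between I_F and the image ideal (S17889) -/
open CategoryTheory CategoryTheory.Limits AlgebraicGeometry TopologicalSpace Opposite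

namespace Groth.Agent.Helper7.BlowSep

open Scheme.IdealSheafData Groth.Agent.Helper4

theorem S17889_main {X Z : Scheme.{u}} (p : Z ⟶ X)
    (X₀ : X.Opens) (F : Closeds X) (G : Closeds Z)
    (𝔞 : X.IdealSheafData) (h₁ : Disjoint (𝔞.support : Set X) (X₀ : Set X))
    (h₂ : Scheme.IdealSheafData.vanishingIdeal F ≤ 𝔞)
    (h₃ : 𝔞 ≤ (((Scheme.IdealSheafData.vanishingIdeal F).comap p ⊔
      Scheme.IdealSheafData.vanishingIdeal G).subschemeι ≫ p).ker)
    {X' : Scheme.{u}} (q : X' ⟶ X) (hq : BlowUp.IsBlowUp q 𝔞) :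
    (Limits.pullback.snd p q).base ⁻¹' closure (q.base ⁻¹' ((F : Set X) ∩ (X₀ : Set X))) ∩
      closure ((Limits.pullback.fst p q).base ⁻¹' ((G : Set Z) ∩ (p ⁻¹ᵁ X₀ : Set Z))) = ∅ := by
  rw [Set.eq_empty_iff_forall_notMem]
  rintro z' ⟨hz2, hz1⟩
  have hz2' : (pullback.snd p q) z' ∈ closure ((fun w => q w) ⁻¹' ((F : Set X) ∩ (X₀ : Set X))) :=
    hz2
  have hz1' : z' ∈ closure ((fun w => (pullback.fst p q) w) ⁻¹'
      ((G : Set Z) ∩ (p ⁻¹ᵁ X₀ : Set Z))) := hz1
  have h₃' : 𝔞.comap p ≤ (Scheme.IdealSheafData.vanishingIdeal F).comap p ⊔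
      Scheme.IdealSheafData.vanishingIdeal G := by
    rw [← le_map_iff_comap_le]
    exact h₃
  have hcond : ∀ w : ↥(pullback p q), p ((pullback.fst p q) w) = q ((pullback.snd p q) w) := by
    intro w
    have := congrArg (fun g : pullback p q ⟶ X => g w) (pullback.condition (f := p) (g := q))
    simpa using this
  -- affine charts
  obtain ⟨O, hO, hxO, -⟩ := Opens.isBasis_iff_nbhd.mp X.isBasis_affineOpens
    (show q ((pullback.snd p q) z') ∈ (⊤ : X.Opens) from trivial)
  obtain ⟨O', hxO', hO'le, t, ht, hE⟩ := EffCartier.shrink hq.1 ((pullback.snd p q) z')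
    (q ⁻¹ᵁ O) hxO
  have hzpO : (pullback.fst p q) z' ∈ p ⁻¹ᵁ O := by
    change p ((pullback.fst p q) z') ∈ O
    rw [hcond]
    exact hxO
  obtain ⟨N, hN, hzN, hNle⟩ := Opens.isBasis_iff_nbhd.mp Z.isBasis_affineOpens hzpO
  obtain ⟨N', hN', hzN', hN'le⟩ := Opens.isBasis_iff_nbhd.mp (pullback p q).isBasis_affineOpens
    (show z' ∈ (pullback.fst p q) ⁻¹ᵁ N ⊓ (pullback.snd p q) ⁻¹ᵁ O'.1 from ⟨hzN, hxO'⟩)
  have eN'1 : N' ≤ (pullback.fst p q) ⁻¹ᵁ N := hN'le.trans inf_le_left
  have eN'2 : N' ≤ (pullback.snd p q) ⁻¹ᵁ O'.1 := hN'le.trans inf_le_right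
  let Oa : X.affineOpens := ⟨O, hO⟩
  let Na : Z.affineOpens := ⟨N, hN⟩
  set α : Γ(X, O) →+* Γ(X', O'.1) := (q.appLE O O'.1 hO'le).hom with hα
  set β : Γ(X, O) →+* Γ(Z, N) := (p.appLE O N hNle).hom with hβ
  set γ : Γ(Z, N) →+* Γ(pullback p q, N') := ((pullback.fst p q).appLE N N' eN'1).hom with hγ
  set δ : Γ(X', O'.1) →+* Γ(pullback p q, N') := ((pullback.snd p q).appLE O'.1 N' eN'2).hom
    with hδ
  have comm : γ.comp β = δ.comp α := by
    have e1 := Scheme.Hom.appLE_comp_appLE (pullback.fst p q) p O N N' hNle eN'1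
    have e2 := Scheme.Hom.appLE_comp_appLE (pullback.snd p q) q O O'.1 N' hO'le eN'2
    have e3 := appLE_congr' (pullback.fst p q ≫ p) (pullback.snd p q ≫ q) pullback.condition O N'
      (eN'1.trans ((Opens.map (pullback.fst p q).base).map (homOfLE hNle)).le)
      (eN'2.trans ((Opens.map (pullback.snd p q).base).map (homOfLE hO'le)).le)
    rw [← e1, ← e2] at e3
    have := congrArg CommRingCat.Hom.hom e3
    simpa using this
  -- the ideals
  set IF : Ideal Γ(X, O) := (Scheme.IdealSheafData.vanishingIdeal F).ideal Oa with hIF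
  set IG : Ideal Γ(Z, N) := (Scheme.IdealSheafData.vanishingIdeal G).ideal Na with hIG
  have hA : (𝔞.ideal Oa).map α = Ideal.span {t} := by
    rw [← hE, IdealComap.ideal_comap_eq_map q 𝔞 O' Oa hO'le]
  have hIFle : IF.map α ≤ Ideal.span {t} := by
    rw [← hA]
    exact Ideal.map_mono (ideal_mono h₂ Oa)
  have hincl' : (𝔞.ideal Oa).map β ≤ IF.map β ⊔ IG := by
    have := ideal_mono h₃' Na
    rw [ideal_sup, Pi.sup_apply, IdealComap.ideal_comap_eq_map p 𝔞 Na Oa hNle,
      IdealComap.ideal_comap_eq_map p _ Na Oa hNle] at this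
    exact this
  -- the points
  set Px' := ptIdeal O'.1 ((pullback.snd p q) z') hxO' with hPx'
  set Pz' := ptIdeal N' z' hzN' with hPz'
  have hcomapδ : Ideal.comap δ Pz' = Px' := comap_ptIdeal (pullback.snd p q) O'.1 N' eN'2 z' hzN'
  -- a point over X₀ : t is not in its prime
  have hX₀ : ∀ (w : X') (hw : w ∈ O'.1), q w ∈ (X₀ : Set X) → t ∉ ptIdeal O'.1 w hw := by
    intro w hwO' hwX₀ htw
    have hqwO : q w ∈ O := hO'le hwO'
    have hns : q w ∉ 𝔞.support := fun h => Set.disjoint_left.mp h₁ h hwX₀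
    obtain ⟨g, hg, hgn⟩ := exists_not_mem_ptIdeal 𝔞 Oa (q w) hqwO hns
    have hαg : α g ∉ ptIdeal O'.1 w hwO' := by
      intro h
      have : g ∈ Ideal.comap α (ptIdeal O'.1 w hwO') := h
      rw [hα, comap_ptIdeal q O O'.1 hO'le w hwO'] at this
      exact hgn this
    have hmem : α g ∈ Ideal.span {t} := hA ▸ Ideal.mem_map_of_mem α hg
    obtain ⟨r, hr⟩ := Ideal.mem_span_singleton'.mp hmem
    apply hαg
    rw [← hr]
    exact Ideal.mul_mem_left _ _ htw
  -- F1
  have F1 : ∀ c : Γ(X', O'.1), c * t ∈ IF.map α → c ∈ Px' := by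
    intro c hc
    by_contra hcn
    have hx'c : (pullback.snd p q) z' ∈ X'.basicOpen c := by
      by_contra h
      exact hcn ((mem_ptIdeal_iff _ _ _ _).mpr h)
    obtain ⟨w, hwc, hwS⟩ := mem_closure_iff.mp hz2' _ (X'.basicOpen c).2 hx'c
    have hwO' : w ∈ O'.1 := X'.basicOpen_le c hwc
    have hqwO : q w ∈ O := hO'le hwO'
    have hw1 : q w ∈ (Scheme.IdealSheafData.vanishingIdeal F).support := by
      have : q w ∈ ((Scheme.IdealSheafData.vanishingIdeal F).support : Set X) := by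
        rw [coe_support_vanishingIdeal]
        exact hwS.1
      exact this
    have hIFw : IF.map α ≤ ptIdeal O'.1 w hwO' :=
      map_le_ptIdeal q O O'.1 hO'le w hwO' _
        ((ideal_le_ptIdeal_iff (Scheme.IdealSheafData.vanishingIdeal F) Oa (q w) hqwO).mpr hw1)
    have htw : t ∉ ptIdeal O'.1 w hwO' := hX₀ w hwO' hwS.2
    rcases (ptIdeal_isPrime O'.1 w hwO').mem_or_mem (hIFw hc) with h | h
    · exact (mem_ptIdeal_iff _ _ _ _).mp h hwc
    · exact htw h
  have hIFmul : IF.map α ≤ Ideal.span {t} * Px' := by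
    intro a' ha'
    obtain ⟨c', hc'⟩ := Ideal.mem_span_singleton'.mp (hIFle ha')
    have hc'P : c' ∈ Px' := F1 c' (hc' ▸ ha')
    rw [← hc', mul_comm c' t]
    exact Ideal.mul_mem_mul (Ideal.mem_span_singleton_self t) hc'P
  have hIFδ : (IF.map α).map δ ≤ Ideal.span {δ t} * Pz' := by
    calc (IF.map α).map δ ≤ (Ideal.span {t} * Px').map δ := Ideal.map_mono hIFmul
      _ = Ideal.span {δ t} * Px'.map δ := by
        rw [Ideal.map_mul, Ideal.map_span, Set.image_singleton]
      _ ≤ Ideal.span {δ t} * Pz' := by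
        apply Ideal.mul_mono le_rfl
        rw [Ideal.map_le_iff_le_comap, hcomapδ]
  have hδt : δ t ∈ (IF.map α).map δ ⊔ IG.map γ := by
    have h1 : δ t ∈ ((𝔞.ideal Oa).map α).map δ := by
      rw [hA]
      exact Ideal.mem_map_of_mem δ (Ideal.mem_span_singleton_self t)
    have h2 : ((𝔞.ideal Oa).map α).map δ ≤ (IF.map α).map δ ⊔ IG.map γ := by
      calc ((𝔞.ideal Oa).map α).map δ = ((𝔞.ideal Oa).map β).map γ := by
            rw [Ideal.map_map, Ideal.map_map, comm]
        _ ≤ (IF.map β ⊔ IG).map γ := Ideal.map_mono hincl'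
        _ = (IF.map α).map δ ⊔ IG.map γ := by
            rw [Ideal.map_sup, Ideal.map_map, comm, ← Ideal.map_map]
    exact h2 h1
  obtain ⟨m₁, hm₁, k, hk, hmk⟩ := Submodule.mem_sup.mp hδt
  obtain ⟨c', hc'P, hc'⟩ := Ideal.mem_span_singleton_mul.mp (hIFδ hm₁)
  set u : Γ(pullback p q, N') := 1 - c' with hu
  have hut : δ t * u = k := by
    have h1 : δ t = δ t * c' + k := by
      rw [hc', hmk]
    rw [hu, mul_sub, mul_one]
    nth_rewrite 1 [h1]
    ring
  have huP : u ∉ Pz' := by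
    intro h
    have h1 : (1 : Γ(pullback p q, N')) ∈ Pz' := by
      have : (1 : Γ(pullback p q, N')) = u + c' := by rw [hu]; ring
      rw [this]
      exact Ideal.add_mem _ h hc'P
    exact (ptIdeal_isPrime _ _ _).ne_top ((Ideal.eq_top_iff_one _).mpr h1)
  -- F4
  have hz'u : z' ∈ (pullback p q).basicOpen u := by
    by_contra h
    exact huP ((mem_ptIdeal_iff _ _ _ _).mpr h)
  obtain ⟨z'', hz''u, hz''S⟩ := mem_closure_iff.mp hz1' _ ((pullback p q).basicOpen u).2 hz'u
  have hz''N' : z'' ∈ N' := (pullback p q).basicOpen_le u hz''u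
  have hz''N : (pullback.fst p q) z'' ∈ N := eN'1 hz''N'
  have hGs : (pullback.fst p q) z'' ∈ (Scheme.IdealSheafData.vanishingIdeal G).support := by
    have : (pullback.fst p q) z'' ∈ ((Scheme.IdealSheafData.vanishingIdeal G).support : Set Z) := by
      rw [coe_support_vanishingIdeal]
      exact hz''S.1
    exact this
  have hIGle : IG ≤ ptIdeal N ((pullback.fst p q) z'') hz''N :=
    (ideal_le_ptIdeal_iff (Scheme.IdealSheafData.vanishingIdeal G) Na _ hz''N).mpr hGs
  have hkP : k ∈ ptIdeal N' z'' hz''N' :=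
    map_le_ptIdeal (pullback.fst p q) N N' eN'1 z'' hz''N' IG hIGle hk
  have hδtP : δ t ∈ ptIdeal N' z'' hz''N' := by
    rcases (ptIdeal_isPrime N' z'' hz''N').mem_or_mem (hut ▸ hkP) with h | h
    · exact h
    · exact absurd hz''u ((mem_ptIdeal_iff _ _ _ _).mp h)
  have hx''O' : (pullback.snd p q) z'' ∈ O'.1 := eN'2 hz''N'
  have htP : t ∈ ptIdeal O'.1 ((pullback.snd p q) z'') hx''O' := by
    have : t ∈ Ideal.comap δ (ptIdeal N' z'' hz''N') := hδtP
    rwa [hδ, comap_ptIdeal (pullback.snd p q) O'.1 N' eN'2 z'' hz''N'] at this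
  have hqx''X₀ : q ((pullback.snd p q) z'') ∈ (X₀ : Set X) := by
    rw [← hcond]
    exact hz''S.2
  exact hX₀ _ hx''O' hqx''X₀ htP

end Groth.Agent.Helper7.BlowSep
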